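import Mathlib
import Groth.Agent.Lib.Helper4.FTDim2
import Groth.Agent.Lib.Helper7.MaxPt

/-!
# helper7: flat schemes locally of finite type over a Dedekind domain with locally quasi-finite
generic fibre are locally quasi-finite (S18485)

Uses Helper4's residual transcendence degree `tr` and the dimension inequality `S9687_main`.
-/

set_option linter.style.haveILetI false
set_option linter.unusedVariables false
set_option linter.unusedSectionVars false
set_option autoImplicit false
set_option backward.isDefEq.respectTransparency.types false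
set_option synthInstance.maxHeartbeats 400000
set_option maxHeartbeats 1600000

universe u

open CategoryTheory CategoryTheory.Limits AlgebraicGeometry TopologicalSpace
open Groth.Agent.Lib.Helper4.FibDim1 Groth.Agent.Lib.Helper4.Aff2 Groth.Agent.Lib.Helper4.Chev8
open Groth.Agent.Lib.Helper4.JacDim1 Groth.Agent.Lib.Helper4.FTDim2 Groth.Agent.Lib.Helper4.DimIneq2
open Groth.Agent.Lib.Helper4.DimIneq4

namespace Groth.Agent.Helper7.DedQF

section

variable (R : Type u) [CommRing R] [IsDedekindDomain R]

/-- the local rings of the spectrum of a Dedekind domain have dimension at most one -/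
theorem stalk_dim_le_one (y : ↥(Spec (CommRingCat.of R))) :
    ringKrullDim ((Spec (CommRingCat.of R)).presheaf.stalk y) ≤ 1 := by
  refine (ringKrullDim_stalk_le (Spec (CommRingCat.of R)) y).trans ?_
  have h1 : topologicalKrullDim (PrimeSpectrum R) = ringKrullDim R :=
    PrimeSpectrum.topologicalKrullDim_eq_ringKrullDim R
  have h2 : ringKrullDim R ≤ 1 := Ring.krullDimLE_iff.mp inferInstance
  have h3 : topologicalKrullDim (PrimeSpectrum R) ≤ 1 := h1 ▸ h2
  exact h3

/-- the generic point of `Spec R` as a morphism -/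
noncomputable abbrev c : Spec (CommRingCat.of (FractionRing R)) ⟶ Spec (CommRingCat.of R) :=
  Spec.map (CommRingCat.ofHom (algebraMap R (FractionRing R)))

instance : SurjectiveOnStalks (c R) := by
  rw [SurjectiveOnStalks.Spec_iff]
  exact RingHom.surjectiveOnStalks_of_isLocalization (nonZeroDivisors R) (FractionRing R)

theorem mem_range_c (y : ↥(Spec (CommRingCat.of R))) (hy : y.asIdeal = ⊥) :
    y ∈ Set.range (c R).base := by
  have hr : Set.range (c R).base =
      {p : PrimeSpectrum R | Disjoint ((nonZeroDivisors R : Submonoid R) : Set R) p.asIdeal} :=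
    PrimeSpectrum.localization_comap_range (FractionRing R) (nonZeroDivisors R)
  rw [hr]
  show Disjoint ((nonZeroDivisors R : Submonoid R) : Set R) (y.asIdeal : Set R)
  refine Set.disjoint_left.mpr fun a ha hb => ?_
  have hb' : a ∈ y.asIdeal := hb
  rw [hy] at hb'
  have h0 : a = 0 := (Submodule.mem_bot R).mp hb'
  exact (mem_nonZeroDivisors_iff_ne_zero.mp ha) h0

end

section

variable {R : Type u} [CommRing R] [IsDedekindDomain R]
variable {X : Scheme.{u}} (f : X ⟶ Spec (CommRingCat.of R))

theorem map_eq_bot_of_isMax [Flat f] (ξ : X) (hmax : ∀ t : X, t ⤳ ξ → t = ξ) :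
    (f.base ξ).asIdeal = ⊥ := by
  let η : ↥(Spec (CommRingCat.of R)) := (⟨⊥, Ideal.isPrime_bot⟩ : PrimeSpectrum R)
  have hsp : η ⤳ f.base ξ :=
    (PrimeSpectrum.le_iff_specializes (R := R) η (f.base ξ)).mp
      (show (⊥ : Ideal R) ≤ (f.base ξ).asIdeal from bot_le)
  obtain ⟨ξ', hξ', hfξ'⟩ := (Flat.generalizingMap f) hsp
  have h1 := hmax ξ' hξ'
  rw [h1] at hfξ'
  have h2 : f.base ξ = η := hfξ'
  rw [h2]

variable [LocallyOfFiniteType f]

theorem tr_eq_zero_of_mem_range [hq : LocallyQuasiFinite (pullback.snd f (c R))]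
    (w : ↥(pullback f (c R))) : tr f ((pullback.fst f (c R)).base w) = 0 := by
  haveI : SurjectiveOnStalks (pullback.fst f (c R)) :=
    MorphismProperty.pullback_fst (P := @SurjectiveOnStalks) f (c R) inferInstance
  haveI : LocallyOfFiniteType (pullback.snd f (c R)) :=
    MorphismProperty.pullback_snd (P := @LocallyOfFiniteType) f (c R) inferInstance
  have h1 := tr_eq_of_square (pullback.fst f (c R)) f (pullback.snd f (c R)) (c R)
    pullback.condition w
  rw [← h1]
  exact tr_eq_zero_of_locallyQuasiFinite (pullback.snd f (c R)) w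

theorem tr_eq_zero_of_isMax [Flat f] [hq : LocallyQuasiFinite (pullback.snd f (c R))]
    (ξ : X) (hmax : ∀ t : X, t ⤳ ξ → t = ξ) : tr f ξ = 0 := by
  have hbot := map_eq_bot_of_isMax f ξ hmax
  have hmem : ξ ∈ Set.range (pullback.fst f (c R)).base := by
    rw [Scheme.Pullback.range_fst]
    exact mem_range_c R (f.base ξ) hbot
  obtain ⟨w, rfl⟩ := hmem
  exact tr_eq_zero_of_mem_range f w

theorem tr_eq_zero [Flat f] [hq : LocallyQuasiFinite (pullback.snd f (c R))]
    (x : X) : tr f x = 0 := by
  obtain ⟨ξ, hξx, hmax⟩ := Groth.Agent.Helper7.MaxPt.exists_maximal_generization x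
  by_cases hxξ : ξ = x
  · subst hxξ
    exact tr_eq_zero_of_isMax f ξ hmax
  · have hineq := S9687_main f x (tr f x) 0 (tr_spec f x) (by
      intro ξ' hξ' _
      have hξmax := isMax_of_closure_mem_irreducibleComponents ξ' hξ'
      have := tr_spec f ξ'
      rw [tr_eq_zero_of_isMax f ξ' hξmax] at this
      rw [this])
    have hx := stalk_dim_le_one R (f.base x)
    have hnm : ¬ IsMax x := by
      intro hm
      have h4 : x ≤ ξ := hξx
      have h5 : x ⤳ ξ := hm h4
      exact hxξ (hξx.antisymm h5).eq
    have hco : Order.coheight x ≠ 0 := by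
      rw [Ne, Order.coheight_eq_zero]; exact hnm
    have hco1 : (1 : ℕ∞) ≤ Order.coheight x := Order.one_le_iff_ne_zero.mpr hco
    rw [ringKrullDim_stalk_eq_coheight x] at hineq
    have h1 : ((Order.coheight x : ℕ∞) : WithBot ℕ∞) + ((tr f x : ℕ) : WithBot ℕ∞) ≤ 1 := by
      refine le_trans hineq ?_
      simpa using hx
    have h2 : ((Order.coheight x + (tr f x : ℕ∞) : ℕ∞) : WithBot ℕ∞) ≤
        ((1 : ℕ∞) : WithBot ℕ∞) := by
      push_cast
      exact h1
    rw [WithBot.coe_le_coe] at h2
    have h3 : (1 : ℕ∞) + (tr f x : ℕ∞) ≤ 1 := le_trans (add_le_add_left hco1 _) h2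
    have h4 : ((1 + tr f x : ℕ) : ℕ∞) ≤ ((1 : ℕ) : ℕ∞) := by push_cast; exact h3
    have h5 : 1 + tr f x ≤ 1 := by exact_mod_cast h4
    omega

theorem main [Flat f] [hq : LocallyQuasiFinite (pullback.snd f (c R))] :
    LocallyQuasiFinite f := by
  refine (IsZariskiLocalAtSource.iff_of_openCover (P := @LocallyQuasiFinite)
    X.affineCover).mpr fun i => ?_
  haveI : QuasiCompact (X.affineCover.f i ≫ f) := inferInstance
  refine LocallyQuasiFinite.of_finite_preimage_singleton (X.affineCover.f i ≫ f) fun y => ?_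
  apply finite_fibre_of_tr_eq_zero (X.affineCover.f i ≫ f) y
  intro z _
  rw [tr_comp (X.affineCover.f i) f z, tr_openImmersion (X.affineCover.f i) z, tr_eq_zero f]

end

end Groth.Agent.Helper7.DedQF
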